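import Mathlib
import Cfsg.Agent.H697.Alm.Defs
import Cfsg.Agent.H698.LinInd

/-!
# S4790, T5: scalars, generated algebras
-/

set_option autoImplicit false

namespace Cfsg.Agent.H832.S4790.Lin

open Module Subgroup
open Cfsg.Agent.H697.Alm

universe u v w

variable {D : Type v} {E : Type u} [Group D] [AddCommGroup E] [DistribMulAction D E]
  {F : Type w} [Field F] [Module F E]

/-- the linear map of an element acting linearly -/
def ln {d : D} (hd : d ∈ CF D E F) : Module.End F E where
  toFun e := d • e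
  map_add' := smul_add d
  map_smul' c e := hd c e

theorem ln_apply {d : D} (hd : d ∈ CF D E F) (e : E) : ln hd e = d • e := rfl

theorem ln_mem {N : Subgroup D} (hN : N ≤ CF D E F) {d : D} (hd : d ∈ N) : ln (hN hd) ∈ alg E F N :=
  Algebra.subset_adjoin ⟨d, hd, fun _ => rfl⟩

theorem alg_mono {N M : Subgroup D} (h : N ≤ M) : alg E F N ≤ alg E F M := by
  apply Algebra.adjoin_mono
  rintro g ⟨n, hn, hg⟩
  exact ⟨n, h hn, hg⟩

theorem alg_comm {N M : Subgroup D} (h : ∀ x ∈ N, ∀ y ∈ M, x * y = y * x) :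
    ∀ s ∈ alg E F N, ∀ t ∈ alg E F M, s * t = t * s := by
  intro s hs t ht
  have h1 : alg E F M ≤ Subalgebra.centralizer F {g | ∃ n ∈ N, ∀ e : E, g e = n • e} := by
    apply Algebra.adjoin_le
    rintro g ⟨m, hm, hg⟩
    rw [SetLike.mem_coe, Subalgebra.mem_centralizer_iff]
    rintro f ⟨n, hn, hf⟩
    refine LinearMap.ext fun e => ?_
    rw [Module.End.mul_apply, Module.End.mul_apply, hg, hf, hf, hg, ← mul_smul, ← mul_smul, h n hn m hm]
  have h2 : alg E F N ≤ Subalgebra.centralizer F {t} := by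
    apply Algebra.adjoin_le
    intro g hg
    rw [SetLike.mem_coe, Subalgebra.mem_centralizer_iff]
    rintro f rfl
    have := (Subalgebra.mem_centralizer_iff F).1 (h1 ht) g hg
    exact this.symm
  exact ((Subalgebra.mem_centralizer_iff F).1 (h2 hs) t rfl).symm

section scalars

theorem mem_CF {d : D} : d ∈ CF D E F ↔ ∀ (c : F) (e : E), d • (c • e) = c • (d • e) := Iff.rfl

theorem mem_AF {d : D} : d ∈ AF D E F ↔ ∃ c : F, ∀ e : E, d • e = c • e := Iff.rfl

theorem AF_le_CF : AF D E F ≤ CF D E F := by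
  rintro d ⟨c, hc⟩ c' e
  rw [hc, hc, smul_smul, smul_smul, mul_comm]

theorem CF_le [FaithfulSMul D E] : CF D E F ≤ centralizer (AF D E F : Set D) := by
  intro d hd
  rw [mem_centralizer_iff]
  rintro a ⟨c, hc⟩
  apply FaithfulSMul.eq_of_smul_eq_smul (α := E)
  intro e
  rw [mul_smul, mul_smul, hc, hc, hd]

theorem AF_normal (fr : Fr D E F) : (AF D E F).Normal := by
  refine ⟨?_⟩
  rintro a ⟨c, hc⟩ d
  obtain ⟨c', hc'⟩ := fr.norm d c
  refine ⟨c', fun e => ?_⟩
  rw [mul_smul, mul_smul, hc, hc', smul_inv_smul]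

/-- scalars are embedded in the field -/
theorem AF_cyclic [Finite D] [FaithfulSMul D E] [Nontrivial E] : IsCyclic (AF D E F) := by
  classical
  obtain ⟨v, hv⟩ := exists_ne (0 : E)
  have hinj : ∀ c c' : F, (∀ e : E, c • e = c' • e) → c = c' := by
    intro c c' h
    by_contra hne
    have h1 : (c - c') • v = 0 := by rw [sub_smul, h v, sub_self]
    rcases smul_eq_zero.1 h1 with h2 | h2
    · exact hne (sub_eq_zero.1 h2)
    · exact hv h2
  choose f hf using fun a : AF D E F => a.2
  let φ : AF D E F →* F :=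
    { toFun := f
      map_one' := hinj _ _ fun e => by
        rw [← hf, OneMemClass.coe_one, one_smul, one_smul]
      map_mul' := fun a b => hinj _ _ fun e => by
        rw [← hf, mul_smul, ← hf b, ← hf a, ← mul_smul]
        rfl }
  refine isCyclic_of_injective_ringHom φ ?_
  intro a b hab
  apply Subtype.ext
  apply FaithfulSMul.eq_of_smul_eq_smul (α := E)
  intro e
  rw [hf a, hf b]
  change f a = f b at hab
  rw [hab]

/-- a commutative normal subgroup of `CF` consists of scalars -/
theorem le_AF (fr : Fr D E F) {Z : Subgroup D} (hZn : Z.Normal) (hZ : Z ≤ CF D E F)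
    (hc : ∀ x ∈ Z, ∀ y ∈ Z, x * y = y * x) : Z ≤ AF D E F := by
  intro z hz
  have h1 := alg_comm (E := E) (F := F) hc
  obtain ⟨c, h2⟩ := (fr.csa Z hZn hZ).cen (ln (hZ hz)) (ln_mem hZ hz) (fun y hy => h1 _ (ln_mem hZ hz) y hy)
  refine ⟨c, fun e => ?_⟩
  have h3 := LinearMap.congr_fun h2 e
  rw [ln_apply] at h3
  rw [h3]
  rfl

end scalars

open scoped commutatorElement

/-- coset representatives are linearly independent -/
theorem relIndex_le [Finite D] [Nontrivial E] [FaithfulSMul D E] [Module.Finite F E] {N : Subgroup D}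
    (hN : N ≤ CF D E F)
    (hcomm : ∀ x ∈ N, ∀ y ∈ N, ⁅x, y⁆ ∈ AF D E F) (hZ : ∀ x ∈ N, (∀ y ∈ N, x * y = y * x) → x ∈ AF D E F) :
    (AF D E F).relIndex N ≤ finrank F (alg E F N) := by
  classical
  have hfin : Finite (N ⧸ (AF D E F).subgroupOf N) := inferInstance
  have : Fintype (N ⧸ (AF D E F).subgroupOf N) := Fintype.ofFinite _
  obtain ⟨v, hv⟩ := exists_ne (0 : E)
  choose f hf using fun a : AF D E F => a.2
  let x : N ⧸ (AF D E F).subgroupOf N → Module.End F E := fun q => ln (hN q.out.2)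
  let T : N → (E →ₗ[F] E) →ₗ[F] (E →ₗ[F] E) := fun y =>
    { toFun := fun g => ln (hN y.2) * g * ln (hN y⁻¹.2)
      map_add' := fun a b => by rw [mul_add, add_mul]
      map_smul' := fun c a => by
        rw [RingHom.id_apply, mul_smul_comm, smul_mul_assoc] }
  let l : N ⧸ (AF D E F).subgroupOf N → N → F := fun q y => f ⟨⁅(y : D), (q.out : D)⁆, hcomm _ y.2 _ q.out.2⟩
  have hli : LinearIndependent F x := by
    refine H698.LinInd.linearIndependent x ?_ T l ?_ ?_
    · intro q h
      have h1 : ((q.out : N) : D) • v = 0 := LinearMap.congr_fun h v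
      exact hv ((smul_eq_zero_iff_eq ((q.out : N) : D)).1 h1)
    · intro y q
      refine LinearMap.ext fun v => ?_
      change (y : D) • (((q.out : N) : D) • (((y⁻¹ : N) : D) • v)) = l q y • (((q.out : N) : D) • v)
      change _ = f ⟨⁅(y : D), (q.out : D)⁆, hcomm _ y.2 _ q.out.2⟩ • (((q.out : N) : D) • v)
      rw [← hf, ← mul_smul, ← mul_smul, ← mul_smul]
      congr 1
      change (y : D) * ((q.out : N) : D) * (y : D)⁻¹ =
        ((y : D) * ((q.out : N) : D) * (y : D)⁻¹ * (((q.out : N) : D))⁻¹) * ((q.out : N) : D)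
      group
    · intro q q' hne
      by_contra hcon
      push Not at hcon
      apply hne
      have h1 : ∀ y : N, ⁅(y : D), (q.out : D)⁆ = ⁅(y : D), (q'.out : D)⁆ := by
        intro y
        have h2 := hcon y
        apply FaithfulSMul.eq_of_smul_eq_smul (α := E)
        intro e
        have h3 := hf ⟨⁅(y : D), (q.out : D)⁆, hcomm _ y.2 _ q.out.2⟩ e
        have h4 := hf ⟨⁅(y : D), (q'.out : D)⁆, hcomm _ y.2 _ q'.out.2⟩ e
        change ⁅(y : D), (q.out : D)⁆ • e = _ at h3
        change ⁅(y : D), (q'.out : D)⁆ • e = _ at h4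
        rw [h3, h4]
        exact congrArg (· • e) h2
      have h3 : (((q'.out : N) : D))⁻¹ * ((q.out : N) : D) ∈ AF D E F := by
        refine hZ _ (N.mul_mem (N.inv_mem q'.out.2) q.out.2) ?_
        intro y hy
        have h4 := h1 ⟨y⁻¹, N.inv_mem hy⟩
        rw [commutatorElement_def, commutatorElement_def] at h4
        have h5 : ((q.out : N) : D) * y * (((q.out : N) : D))⁻¹ = ((q'.out : N) : D) * y * (((q'.out : N) : D))⁻¹ := by
          have h6 := congrArg (fun t => y * t) h4
          simp only [inv_inv] at h6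
          have e1 : ∀ u : D, y * (y⁻¹ * u * y * u⁻¹) = u * y * u⁻¹ := fun u => by group
          rwa [e1, e1] at h6
        calc (((q'.out : N) : D))⁻¹ * ((q.out : N) : D) * y =
            (((q'.out : N) : D))⁻¹ * (((q.out : N) : D) * y * (((q.out : N) : D))⁻¹) * ((q.out : N) : D) := by group
          _ = (((q'.out : N) : D))⁻¹ * (((q'.out : N) : D) * y * (((q'.out : N) : D))⁻¹) * ((q.out : N) : D) := by
              rw [h5]
          _ = _ := by group
      have h4 : (q'.out : N ⧸ (AF D E F).subgroupOf N) = (q.out : N ⧸ (AF D E F).subgroupOf N) := by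
        rw [QuotientGroup.eq, Subgroup.mem_subgroupOf]
        exact h3
      have h5 : ∀ q : N ⧸ (AF D E F).subgroupOf N, ((q.out : N) : N ⧸ (AF D E F).subgroupOf N) = q :=
        fun q => QuotientGroup.out_eq' q
      rw [← h5 q, ← h5 q', h4]
  let x' : N ⧸ (AF D E F).subgroupOf N → alg E F N := fun q => ⟨x q, ln_mem hN q.out.2⟩
  have hli' : LinearIndependent F x' := by
    apply LinearIndependent.of_comp (alg E F N).val.toLinearMap
    exact hli
  have h1 := hli'.fintype_card_le_finrank
  have h2 : (AF D E F).relIndex N = Fintype.card (N ⧸ (AF D E F).subgroupOf N) := by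
    rw [← Nat.card_eq_fintype_card]
    rfl
  rw [h2]
  exact h1

end Cfsg.Agent.H832.S4790.Lin
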