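import Mathlib

/-!
# S4790, T5: numerical facts
-/

set_option autoImplicit false

namespace Cfsg.Agent.H832.S4790.Num

open Finset

theorem base {r : ℕ} (hr : 3 ≤ r) : r ^ 5 ≤ 16 ^ (r - 1) := by
  induction r, hr using Nat.le_induction with
  | base => norm_num
  | succ r hr ih =>
    have h1 : (r + 1) ^ 5 ≤ 16 * r ^ 5 := by
      have h2 : 3 * (r + 1) ≤ 4 * r := by omega
      have h3 := Nat.pow_le_pow_left h2 5
      rw [mul_pow, mul_pow] at h3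
      nlinarith [h3, Nat.zero_le (r ^ 5)]
    obtain ⟨k, rfl⟩ : ∃ k, r = k + 1 := ⟨r - 1, by omega⟩
    have e : k + 1 + 1 - 1 = (k + 1 - 1) + 1 := by omega
    rw [e, pow_succ 16, mul_comm]
    exact h1.trans (Nat.mul_le_mul_left _ ih)

theorem big {r : ℕ} (hr : 3 ≤ r) (j : ℕ) : r ^ (2 * j ^ 2 + 3 * j) ≤ 16 ^ (r ^ j - 1) := by
  induction j with
  | zero => simp
  | succ j ih =>
    have h1 : 1 ≤ r ^ j := Nat.one_le_pow _ _ (by omega)
    have e1 : 2 * (j + 1) ^ 2 + 3 * (j + 1) = (2 * j ^ 2 + 3 * j) + (4 * j + 5) := by ring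
    have e2 : r ^ (j + 1) - 1 = (r ^ j - 1) + r ^ j * (r - 1) := by
      obtain ⟨k, rfl⟩ : ∃ k, r = k + 1 := ⟨r - 1, by omega⟩
      obtain ⟨m, hm⟩ : ∃ m, (k + 1) ^ j = m + 1 := ⟨(k + 1) ^ j - 1, by omega⟩
      rw [pow_succ, hm]
      have : (m + 1) * (k + 1) = (m + (m + 1) * k) + 1 := by ring
      rw [this]
      simp
    have h2 : j + 1 ≤ r ^ j := Nat.lt_pow_self (by omega)
    have h3 : r ^ (4 * j + 5) ≤ 16 ^ (r ^ j * (r - 1)) := by
      calc r ^ (4 * j + 5) ≤ r ^ (5 * r ^ j) := Nat.pow_le_pow_right (by omega) (by omega)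
        _ = (r ^ 5) ^ (r ^ j) := by rw [pow_mul]
        _ ≤ (16 ^ (r - 1)) ^ (r ^ j) := Nat.pow_le_pow_left (base hr) _
        _ = _ := by rw [← pow_mul, mul_comm]
    rw [e1, e2, pow_add r, pow_add 16]
    exact Nat.mul_le_mul ih h3

theorem two_exp {j : ℕ} (hj : 3 ≤ j) : 2 * j ^ 2 + 3 * j + 4 ≤ 4 * 2 ^ j := by
  induction j, hj using Nat.le_induction with
  | base => norm_num
  | succ j hj ih =>
    have h2 : j + 1 ≤ 2 ^ j := Nat.lt_pow_self (by omega)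
    have e1 : 2 * (j + 1) ^ 2 + 3 * (j + 1) = (2 * j ^ 2 + 3 * j) + (4 * j + 5) := by ring
    rw [e1, pow_succ 2]
    have h3 : 2 * j ≤ 2 ^ j := by
      obtain ⟨k, rfl⟩ : ∃ k, j = k + 1 := ⟨j - 1, by omega⟩
      have h4 : k + 1 ≤ 2 ^ k := Nat.lt_pow_self (by omega)
      rw [pow_succ]
      omega
    omega

theorem big_two {j : ℕ} (hj : 3 ≤ j) : 2 ^ (2 * j ^ 2 + 3 * j) ≤ 16 ^ (2 ^ j - 1) := by
  have h := two_exp hj
  have e : (16 : ℕ) = 2 ^ 4 := by norm_num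
  rw [e, ← pow_mul]
  exact Nat.pow_le_pow_right (by norm_num) (by omega)

theorem prod_le (r j : ℕ) : ∏ i ∈ range j, (r ^ (2 * (i + 1)) - 1) ≤ r ^ (j ^ 2 + j) := by
  induction j with
  | zero => simp
  | succ j ih =>
    rw [prod_range_succ]
    have e : (j + 1) ^ 2 + (j + 1) = (j ^ 2 + j) + 2 * (j + 1) := by ring
    rw [e, pow_add]
    exact Nat.mul_le_mul ih (Nat.sub_le _ _)

/-- the order of `r ^ (2 * j) : Sp (2 * j, r)` -/
def S (r j : ℕ) : ℕ := r ^ (2 * j) * (r ^ (j ^ 2) * ∏ i ∈ range j, (r ^ (2 * (i + 1)) - 1))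

theorem S_le (r j : ℕ) : S r j ≤ r ^ (2 * j ^ 2 + 3 * j) := by
  have h := prod_le r j
  have e : 2 * j ^ 2 + 3 * j = 2 * j + (j ^ 2 + (j ^ 2 + j)) := by ring
  rw [e, pow_add, pow_add, S]
  exact Nat.mul_le_mul_left _ (Nat.mul_le_mul_left _ h)

theorem pow_sub {p n : ℕ} (hp : 1 ≤ p) (hn : 1 ≤ n) : (p - 1) * p ^ (n - 1) ≤ p ^ n - 1 := by
  obtain ⟨k, rfl⟩ : ∃ k, n = k + 1 := ⟨n - 1, by omega⟩
  obtain ⟨q, rfl⟩ : ∃ q, p = q + 1 := ⟨p - 1, by omega⟩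
  rw [Nat.add_sub_cancel, Nat.add_sub_cancel, pow_succ]
  have h1 : 1 ≤ (q + 1) ^ k := Nat.one_le_pow _ _ (by omega)
  apply Nat.le_sub_of_add_le
  nlinarith

theorem S_of_le {p r j : ℕ} (hp : 23 ≤ p) (hr : 1 ≤ r) (h : r ^ (2 * j ^ 2 + 3 * j) ≤ 16 ^ (r ^ j - 1)) :
    S r j * (p - 1) ≤ p ^ (r ^ j) - 1 := by
  have h1 : 1 ≤ r ^ j := Nat.one_le_pow _ _ hr
  calc S r j * (p - 1) ≤ 16 ^ (r ^ j - 1) * (p - 1) := Nat.mul_le_mul_right _ ((S_le r j).trans h)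
    _ ≤ p ^ (r ^ j - 1) * (p - 1) := Nat.mul_le_mul_right _ (Nat.pow_le_pow_left (by omega) _)
    _ = (p - 1) * p ^ (r ^ j - 1) := mul_comm _ _
    _ ≤ _ := pow_sub (by omega) h1

/-- the symplectic layer -/
theorem S_main {p r j : ℕ} (hp : 23 ≤ p) (hr : 2 ≤ r) : S r j * (p - 1) ≤ p ^ (r ^ j) - 1 := by
  rcases Nat.lt_or_ge 2 r with h | h
  · exact S_of_le hp (by omega) (big h j)
  · obtain rfl : r = 2 := by omega
    rcases Nat.lt_or_ge j 3 with hj | hj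
    · obtain ⟨q, rfl⟩ : ∃ q, p = q + 1 := ⟨p - 1, by omega⟩
      rw [Nat.add_sub_cancel]
      have hq : 22 ≤ q := by omega
      apply Nat.le_sub_of_add_le
      interval_cases j
      · simp [S]
      · simp only [S, pow_one, mul_one, one_pow, prod_range_one]
        norm_num
        nlinarith
      · simp only [S, prod_range_succ, prod_range_zero]
        norm_num
        have h2 : 22 * 22 ≤ q * q := Nat.mul_le_mul hq hq
        have h3 : 22 * 22 * 22 ≤ q * q * q := Nat.mul_le_mul h2 hq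
        have e : (q + 1) ^ 4 = q * (q * q * q + 4 * (q * q) + 6 * q + 4) + 1 := by ring
        rw [e, mul_comm]
        have h4 : 11520 ≤ q * q * q + 4 * (q * q) + 6 * q + 4 := by omega
        have h5 := Nat.mul_le_mul_left q h4
        omega
    · exact S_of_le hp (by omega) (big_two hj)

theorem pow_mul_pow {p u v : ℕ} (hp : 1 ≤ p) (hv : 1 ≤ v) :
    (p ^ u - 1) * (p ^ v - 1) ≤ (p - 1) * (p ^ (u * v) - 1) := by
  have h1 : ∀ n : ℕ, 1 ≤ p ^ n := fun n => Nat.one_le_pow _ _ hp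
  have key : ((p : ℤ) ^ u - 1) * ((p : ℤ) ^ v - 1) ≤ ((p : ℤ) - 1) * ((p : ℤ) ^ (u * v) - 1) := by
    rw [mul_comm u v, pow_mul, ← geom_sum_mul, ← geom_sum_mul ((p : ℤ) ^ v) u]
    have h2 : (1 : ℤ) ≤ p := by exact_mod_cast hp
    have h3 : (1 : ℤ) ≤ (p : ℤ) ^ v := by exact_mod_cast h1 v
    have h4 : ∑ i ∈ range u, (p : ℤ) ^ i ≤ ∑ i ∈ range u, ((p : ℤ) ^ v) ^ i := by
      refine sum_le_sum fun i _ => ?_
      rw [← pow_mul]
      exact pow_le_pow_right₀ h2 (Nat.le_mul_of_pos_left _ hv)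
    have h5 : 0 ≤ ((p : ℤ) - 1) * ((p : ℤ) ^ v - 1) := mul_nonneg (by linarith) (by linarith)
    nlinarith [mul_le_mul_of_nonneg_left h4 h5]
  zify [h1 u, h1 v, h1 (u * v), hp]
  exact key

end Cfsg.Agent.H832.S4790.Num
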