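import Mathlib
import Cfsg.Agent.H697.Alm.Symp
import Cfsg.Agent.H832.S4790.MinB
import Cfsg.Agent.H832.S4790.Num
import Cfsg.Agent.H832.S4790.Lin

/-!
# S4790, T5: the chain of symplectic layers (T1 is a hypothesis)
-/

set_option autoImplicit false
set_option linter.unusedSectionVars false
set_option linter.unusedVariables false

namespace Cfsg.Agent.H832.S4790.ChainOf

open Module Subgroup Cfsg
open Cfsg.Agent.H697.Alm
open scoped commutatorElement

universe u

variable {D E : Type u} [Group D] [Finite D] [AddCommGroup E] [Finite E] [Nontrivial E] [DistribMulAction D E]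
  [FaithfulSMul D E] {F : Type u} [Field F] [Finite F] [Module F E]

/-- one layer, in the group `B` -/
theorem layer {A N B : Subgroup D} (hAN : A ≤ N) (hNB : N ≤ B) (hBA : B ≤ centralizer (A : Set D))
    (hAc : IsCyclic A) (hNn : N.Normal) {r : ℕ} (hr : r.Prime)
    (hexp : ∀ x ∈ N, x ^ r ∈ A) (hcomm : ∀ x ∈ N, ∀ y ∈ N, ⁅x, y⁆ ∈ A)
    (hZ : ∀ x ∈ N, (∀ y ∈ N, x * y = y * x) → x ∈ A) :
    ∃ j : ℕ, A.relIndex N = r ^ (2 * j) ∧ (B ⊓ centralizer (N : Set D)).relIndex B ≤ Num.S r j := by
  have : Fact r.Prime := ⟨hr⟩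
  have h1 : A.subgroupOf B ≤ N.subgroupOf B := fun x hx => hAN hx
  have h2 : A.subgroupOf B ≤ center B := by
    intro a ha
    rw [mem_center_iff]
    intro b
    apply Subtype.ext
    exact ((mem_centralizer_iff.1 (hBA b.2)) a ha).symm
  have h3 : IsCyclic (A.subgroupOf B) := by
    have e := (subgroupOfEquivOfLe (hAN.trans hNB))
    exact isCyclic_of_surjective e.symm e.symm.surjective
  obtain ⟨j, hj1, hj2⟩ := symp_layer (C := B) h1 h2 h3 (hNn.subgroupOf B) (r := r)
    (fun x hx => hexp x hx) (fun x hx y hy => hcomm x hx y hy)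
    (fun x hx hy => hZ x hx fun y hyN => by
      have := hy ⟨y, hNB hyN⟩ hyN
      exact congrArg Subtype.val this)
  refine ⟨j, ?_, ?_⟩
  · rw [← hj1, relIndex_subgroupOf hNB]
  · rw [inf_relIndex_left]
    have e : (centralizer (N : Set D)).relIndex B = (centralizer ((N.subgroupOf B : Subgroup B) : Set B)).index := by
      rw [relIndex]
      congr 1
      ext x
      rw [mem_subgroupOf, mem_centralizer_iff, mem_centralizer_iff]
      constructor
      · intro h y hy
        apply Subtype.ext
        exact h y hy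
      · intro h y hy
        exact congrArg Subtype.val (h ⟨y, hNB hy⟩ hy)
    rw [e]
    exact hj2

theorem chain_of {p : ℕ} (hp : p.Prime) (h23 : 23 ≤ p)
    (T1 : ∀ S T : Subalgebra F (Module.End F E), CSA S → (∀ s ∈ S, ∀ t ∈ T, s * t = t * s) →
      finrank F S * finrank F T ≤ finrank F (S ⊔ T : Subalgebra F (Module.End F E)))
    (fr : Fr D E F) : ∀ (n : ℕ) (D' : Subgroup D), Nat.card D' = n → D'.Normal → D' ≤ CF D E F → AF D E F ≤ D' →
      (∀ K : Subgroup D, IsComponent K → ¬ K ≤ D') →
    ∃ w : ℕ, 1 ≤ w ∧ w ^ 2 ≤ finrank F (alg E F D') ∧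
      (AF D E F).relIndex D' * (p - 1) ≤ p ^ w - 1 := by
  intro n
  induction n using Nat.strong_induction_on with
  | _ n ih =>
    intro D' hn hD' hC hA hcomp
    have hfin : Module.Finite F E := Module.Finite.of_finite
    by_cases hAD : AF D E F = D'
    · refine ⟨1, le_rfl, ?_, ?_⟩
      · have : 0 < finrank F (alg E F D') := finrank_pos
        rw [one_pow]
        exact this
      · rw [hAD, relIndex_self, one_mul, pow_one]
    have hAD' : AF D E F < D' := lt_of_le_of_ne hA hAD
    have hAn := Lin.AF_normal fr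
    obtain ⟨N, hNn, hAN, hND, hcomm, r, hr, hexp⟩ :=
      MinB.exists_min hD' hcomp hAn hAD' (hC.trans Lin.CF_le)
    have hNC : N ≤ CF D E F := hND.trans hC
    -- the centre of `N`
    have hZ : ∀ x ∈ N, (∀ y ∈ N, x * y = y * x) → x ∈ AF D E F := by
      intro x hx hc
      have hZn : (N ⊓ centralizer (N : Set D)).Normal := inferInstance
      refine Lin.le_AF fr hZn (inf_le_left.trans hNC) ?_ (mem_inf.2 ⟨hx, ?_⟩)
      · intro x hx y hy
        exact (mem_centralizer_iff.1 hx.2 y hy.1).symm
      · rw [mem_centralizer_iff]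
        intro y hy
        exact (hc y hy).symm
    obtain ⟨j, hj1, hj2⟩ := layer hAN.le hND (hC.trans Lin.CF_le) Lin.AF_cyclic hNn hr hexp hcomm hZ
    -- the next group
    obtain ⟨B, hB⟩ : ∃ B : Subgroup D, B = D' ⊓ centralizer (N : Set D) := ⟨_, rfl⟩
    rw [← hB] at hj2
    have hBn : B.Normal := by rw [hB]; infer_instance
    have hBD : B ≤ D' := by rw [hB]; exact inf_le_left
    have hBN : B ≤ centralizer (N : Set D) := by rw [hB]; exact inf_le_right
    have hAB : AF D E F ≤ B := by
      rw [hB]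
      refine le_inf hA ?_
      rw [le_centralizer_iff]
      exact hNC.trans Lin.CF_le
    have hBne : B ≠ D' := by
      intro h
      have h1 : N ≤ centralizer (N : Set D) := hND.trans (h ▸ hBN)
      apply hAN.not_ge
      intro x hx
      exact hZ x hx fun y hy => (mem_centralizer_iff.1 (h1 hx) y hy).symm
    have hlt : Nat.card B < n := by
      rw [← hn]
      exact Set.ncard_lt_ncard (SetLike.coe_ssubset_coe.2 (lt_of_le_of_ne hBD hBne)) (Set.toFinite _)
    obtain ⟨w, hw1, hw2, hw3⟩ := ih _ hlt B rfl hBn (hBD.trans hC) hAB (fun K hK h => hcomp K hK (h.trans hBD))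
    refine ⟨r ^ j * w, ?_, ?_, ?_⟩
    · exact Nat.mul_pos (pow_pos hr.pos _) hw1
    · have h1 := Lin.relIndex_le (E := E) (F := F) hNC hcomm hZ
      rw [hj1] at h1
      have h2 := T1 (alg E F N) (alg E F B) (fr.csa N hNn hNC) (Lin.alg_comm fun x hx y hy =>
        mem_centralizer_iff.1 (hBN hy) x hx)
      have h3 : finrank F (alg E F N ⊔ alg E F B : Subalgebra F (Module.End F E)) ≤ finrank F (alg E F D') := by
        have h4 : alg E F N ⊔ alg E F B ≤ alg E F D' := sup_le (Lin.alg_mono hND) (Lin.alg_mono hBD)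
        exact Submodule.finrank_mono (s := Subalgebra.toSubmodule (alg E F N ⊔ alg E F B))
          (t := Subalgebra.toSubmodule (alg E F D')) h4
      calc (r ^ j * w) ^ 2 = r ^ (2 * j) * w ^ 2 := by ring
        _ ≤ finrank F (alg E F N) * finrank F (alg E F B) := Nat.mul_le_mul h1 hw2
        _ ≤ _ := h2.trans h3
    · have hnum := Num.S_main (j := j) h23 hr.two_le
      have hnum2 := Num.pow_mul_pow (p := p) (u := w) (v := r ^ j) (by omega) (pow_pos hr.pos _)
      have e1 : (AF D E F).relIndex D' = (AF D E F).relIndex B * B.relIndex D' :=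
        (relIndex_mul_relIndex _ _ _ hAB hBD).symm
      have hpos : 0 < p - 1 := by omega
      apply Nat.le_of_mul_le_mul_left _ hpos
      calc (p - 1) * ((AF D E F).relIndex D' * (p - 1)) =
          ((AF D E F).relIndex B * (p - 1)) * (B.relIndex D' * (p - 1)) := by rw [e1]; ring
        _ ≤ (p ^ w - 1) * (Num.S r j * (p - 1)) := Nat.mul_le_mul hw3 (Nat.mul_le_mul_right _ hj2)
        _ ≤ (p ^ w - 1) * (p ^ (r ^ j) - 1) := Nat.mul_le_mul_left _ hnum
        _ ≤ (p - 1) * (p ^ (w * r ^ j) - 1) := hnum2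
        _ = _ := by rw [mul_comm w]

end Cfsg.Agent.H832.S4790.ChainOf
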