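import Mathlib
import Cfsg.Agent.H311.S4790.LinDisj
import Cfsg.Agent.H832.S4790.ChainOf

/-!
# S4790, T5: the chain of symplectic layers
-/

set_option autoImplicit false
set_option linter.unusedSectionVars false
set_option linter.unusedVariables false

namespace Cfsg.Agent.H832.S4790.Chain

open Module Subgroup Cfsg
open Cfsg.Agent.H697.Alm

universe u

variable {D E : Type u} [Group D] [Finite D] [AddCommGroup E] [Finite E] [Nontrivial E] [DistribMulAction D E]
  [FaithfulSMul D E] {F : Type u} [Field F] [Finite F] [Module F E]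

/-- **S4790, T5.** A normal subgroup without components between the scalars and the linear elements. -/
theorem chain {p : ℕ} (hp : p.Prime) (h23 : 23 ≤ p) (hpE : ∀ e : E, p • e = 0) (hcop : ¬ p ∣ Nat.card D)
    (fr : Fr D E F) (D' : Subgroup D) [D'.Normal] (hC : D' ≤ CF D E F) (hA : AF D E F ≤ D')
    (hcomp : ∀ K : Subgroup D, IsComponent K → ¬ K ≤ D') :
    ∃ w : ℕ, 1 ≤ w ∧ w ^ 2 ≤ finrank F (alg E F D') ∧
      (AF D E F).relIndex D' * (p - 1) ≤ p ^ w - 1 := by
  have hfin : Module.Finite F E := Module.Finite.of_finite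
  exact ChainOf.chain_of hp h23 (fun S T hS hc => Cfsg.Agent.H311.S4790.LinDisj.lin_disj S T hS hc) fr _ D' rfl
    inferInstance hC hA hcomp

end Cfsg.Agent.H832.S4790.Chain
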